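import Groth.Agent.Calg4.GenericNormalFlat
import Mathlib.RingTheory.Ideal.MinimalPrime.Noetherian
import Mathlib.AlgebraicGeometry.Morphisms.Immersion
import Mathlib.AlgebraicGeometry.Morphisms.ClosedImmersion

/-!
# Stratifications with flat graded quotients

For a finite module `M` over a finite type algebra `B` over a Noetherian ring `A` and an ideal `J`
of `B`, the spectrum of `A` is a disjoint union of affine pieces over which all the quotients
`J^n / J^(n+1)` of the base changed module are flat.
-/

set_option autoImplicit false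

universe u

open TensorProduct

namespace Groth.EGA43Gr

variable {A : Type u} [CommRing A] {B : Type u} [CommRing B] [Algebra A B] (J : Ideal B)
  (M : Type u) [AddCommGroup M] [Module B M] [Module A M] [IsScalarTower A B M]

/-- The graded quotient of the base change to `L`, as it appears in the statement. -/
def grBC (L : Type u) [CommRing L] [Algebra A L] (n : ℕ) :
    Submodule L ((L ⊗[A] M) ⧸ LinearMap.range (LinearMap.baseChange L
      ((J ^ (n + 1) • (⊤ : Submodule B M)).restrictScalars A).subtype)) :=
  Submodule.map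
    (LinearMap.range (LinearMap.baseChange L
      ((J ^ (n + 1) • (⊤ : Submodule B M)).restrictScalars A).subtype)).mkQ
    (LinearMap.range (LinearMap.baseChange L
      ((J ^ n • (⊤ : Submodule B M)).restrictScalars A).subtype))

/-- `J^(n+1) M + P M`. -/
def relations (P : Ideal A) (n : ℕ) : Submodule B M :=
  J ^ (n + 1) • ⊤ ⊔ P.map (algebraMap A B) • ⊤

/-- `J^n M → M / (J^(n+1) M + P M)`. -/
noncomputable def toQuot (P : Ideal A) (n : ℕ) :
    ↥((J ^ n • (⊤ : Submodule B M)).restrictScalars A) →ₗ[A] M ⧸ relations J M P n :=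
  ((relations J M P n).mkQ.restrictScalars A).comp
    ((J ^ n • (⊤ : Submodule B M)).restrictScalars A).subtype

/-- Away from an element outside a prime, the graded pieces modulo the prime are flat. -/
theorem exists_flat_pieces [IsNoetherianRing A] [Algebra.FiniteType A B] [Module.Finite B M]
    (P : Ideal A) [P.IsPrime] :
    ∃ f : A, f ∉ P ∧ ∀ n : ℕ, Module.Flat (Localization.Away (Ideal.Quotient.mk P f))
      (Localization.Away (Ideal.Quotient.mk P f) ⊗[A ⧸ P]
        ((A ⧸ P) ⊗[A] LinearMap.range (toQuot J M P n))) := by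
  haveI : IsNoetherianRing B := Algebra.FiniteType.isNoetherianRing A B
  let F := J.stableFiltration (⊤ : Submodule B M)
  let F' : J.Filtration M :=
    { N := fun i => relations J M P i
      mono := fun i => sup_le_sup_right (Submodule.smul_mono_left (Ideal.pow_le_pow_right (by omega))) _
      smul_le := fun i => by
        rw [relations, relations, Submodule.smul_sup]
        refine sup_le_sup (le_of_eq ?_) ?_
        · rw [← Submodule.smul_assoc, smul_eq_mul, ← pow_succ']
        · rw [← Submodule.smul_assoc, smul_eq_mul]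
          exact Submodule.smul_mono_left Ideal.mul_le_right }
  let K : Submodule ↥(reesAlgebra J) F.submodule := F'.submodule.comap F.submodule.subtype
  letI : AddCommGroup ↥F.submodule := Submodule.addCommGroup F.submodule
  let W := ↥F.submodule ⧸ K
  haveI : Module.Finite ↥(reesAlgebra J) F.submodule := Module.Finite.of_fg
    ((Ideal.Filtration.submodule_fg_iff_stable _ fun i => IsNoetherian.noetherian _).mpr
      (Ideal.stableFiltration_stable J ⊤))
  haveI : Algebra.FiniteType A ↥(reesAlgebra J) :=
    Algebra.FiniteType.trans (S := B) inferInstance inferInstance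
  let single' (n : ℕ) : ↥((J ^ n • (⊤ : Submodule B M)).restrictScalars A) →ₗ[A] W :=
    { toFun := fun x => Submodule.Quotient.mk ⟨PolynomialModule.single B n (x : M), by
        rw [Ideal.Filtration.mem_submodule]
        intro j
        rw [PolynomialModule.coeff_single, Finsupp.single_apply]
        split_ifs with h
        · subst h; exact x.2
        · exact zero_mem _⟩
      map_add' := fun x y => by
        rw [← Submodule.Quotient.mk_add]
        exact congrArg _ (Subtype.ext (by simp [map_add]))
      map_smul' := fun a x => by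
        rw [← Submodule.Quotient.mk_smul]
        exact congrArg _ (Subtype.ext (by
          simp only [RingHom.id_apply, Submodule.coe_smul_of_tower]
          rw [← algebraMap_smul B a, ← algebraMap_smul B a (PolynomialModule.single B n (x : M)),
            PolynomialModule.single_smul])) }
  have hker : ∀ n, LinearMap.ker (toQuot J M P n) ≤ LinearMap.ker (single' n) := fun n x hx => by
    rw [LinearMap.mem_ker] at hx ⊢
    have hx' : (x : M) ∈ relations J M P n := (Submodule.Quotient.mk_eq_zero _).1 hx
    refine (Submodule.Quotient.mk_eq_zero _).2 ?_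
    show PolynomialModule.single B n (x : M) ∈ F'.submodule
    rw [Ideal.Filtration.mem_submodule]
    intro j
    rw [PolynomialModule.coeff_single, Finsupp.single_apply]
    split_ifs with h
    · subst h; exact hx'
    · exact zero_mem _
  let coeff' (n : ℕ) : F.submodule →ₗ[A] LinearMap.range (toQuot J M P n) :=
    { toFun := fun w => ⟨Submodule.Quotient.mk ((w : PolynomialModule B M).coeff n),
        ⟨⟨(w : PolynomialModule B M).coeff n, w.2 n⟩, rfl⟩⟩
      map_add' := fun x y => Subtype.ext (by simp)
      map_smul' := fun a x => Subtype.ext (by simp; rfl) }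
  have hK : ∀ n, K.restrictScalars A ≤ LinearMap.ker (coeff' n) := fun n w hw =>
    LinearMap.mem_ker.2 (Subtype.ext ((Submodule.Quotient.mk_eq_zero _).2 (hw n)))
  refine Groth.Calg4.GenericNormalFlat.exists_flat_away_of_retracts P ↥(reesAlgebra J) W
    (fun n => LinearMap.range (toQuot J M P n))
    (fun n => ((LinearMap.ker (toQuot J M P n)).liftQ (single' n) (hker n)).comp
      (toQuot J M P n).quotKerEquivRange.symm.toLinearMap)
    (fun n => ((K.restrictScalars A).liftQ (coeff' n) (hK n)).comp
      (Submodule.Quotient.restrictScalarsEquiv A K).symm.toLinearMap) fun n y => ?_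
  obtain ⟨_, x, rfl⟩ := y
  refine Subtype.ext ?_
  simp only [LinearMap.comp_apply, LinearEquiv.coe_coe]
  rw [LinearMap.quotKerEquivRange_symm_apply_image]
  show Submodule.Quotient.mk ((PolynomialModule.single B n (x : M)).coeff n) = toQuot J M P n x
  rw [PolynomialModule.coeff_single, Finsupp.single_eq_same]
  rfl

/-- The graded quotient of the base change to a flat algebra over `A/P`. -/
theorem flat_grBC (P : Ideal A) (L : Type u) [CommRing L] [Algebra A L] [Algebra (A ⧸ P) L]
    [IsScalarTower A (A ⧸ P) L] [Module.Flat (A ⧸ P) L] (n : ℕ)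
    (h : Module.Flat L (L ⊗[A ⧸ P] ((A ⧸ P) ⊗[A] ↥(LinearMap.range (toQuot J M P n))))) :
    Module.Flat L (grBC (A := A) J M L n) := by
  let Pn := LinearMap.range (toQuot J M P n)
  let Q := M ⧸ relations J M P n
  have hP : ∀ a ∈ P, algebraMap A L a = 0 := fun a ha => by
    rw [IsScalarTower.algebraMap_apply A (A ⧸ P) L a, Ideal.Quotient.algebraMap_eq,
      Ideal.Quotient.eq_zero_iff_mem.2 ha, map_zero]
  have hPQ : ∀ a ∈ P, ∀ z : Q, a • z = 0 := fun a ha z => by
    obtain ⟨m, rfl⟩ := Submodule.Quotient.mk_surjective _ z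
    rw [← Submodule.Quotient.mk_smul, Submodule.Quotient.mk_eq_zero, ← algebraMap_smul B a m]
    exact le_sup_right (α := Submodule B M)
      (Submodule.smul_mem_smul (Ideal.mem_map_of_mem _ ha) Submodule.mem_top)
  -- `Pn → Q` stays injective over `A/P`
  have hinjD : Function.Injective (Pn.subtype.baseChange (A ⧸ P)) := by
    refine (injective_iff_map_eq_zero _).2 fun t ht => ?_
    obtain ⟨x, rfl⟩ := TensorProduct.mk_surjective A Pn (A ⧸ P) Ideal.Quotient.mk_surjective t
    rw [TensorProduct.mk_apply, LinearMap.baseChange_tmul] at ht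
    have h0 := congrArg (TensorProduct.quotTensorEquivQuotSMul Q P) ht
    rw [map_zero] at h0
    have h1 : ((1 : A) • (x : Q)) ∈ P • (⊤ : Submodule A Q) := by
      rw [← Submodule.Quotient.mk_eq_zero]
      rw [show (1 : A ⧸ P) = Ideal.Quotient.mk P (1 : A) from (map_one _).symm,
        TensorProduct.quotTensorEquivQuotSMul_mk_tmul] at h0
      exact h0
    have h2 : P • (⊤ : Submodule A Q) = ⊥ :=
      eq_bot_iff.2 (Submodule.smul_le.2 fun a ha z _ => (hPQ a ha z).symm ▸ zero_mem _)
    rw [h2, Submodule.mem_bot, one_smul] at h1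
    rw [show x = 0 from Subtype.ext h1, map_zero]
  -- hence over `L`
  have hinj : Function.Injective (Pn.subtype.baseChange L) := by
    have h1 := Module.Flat.lTensor_preserves_injective_linearMap (R := A ⧸ P) (M := L)
      (Pn.subtype.baseChange (A ⧸ P)) hinjD
    let e₁ := AlgebraTensorModule.cancelBaseChange A (A ⧸ P) L L Pn
    let e₂ := AlgebraTensorModule.cancelBaseChange A (A ⧸ P) L L Q
    have hcomp : ∀ z, Pn.subtype.baseChange L (e₁ z) =
        e₂ ((Pn.subtype.baseChange (A ⧸ P)).lTensor L z) := by
      intro z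
      induction z using TensorProduct.induction_on with
      | zero => simp
      | tmul l y =>
        induction y using TensorProduct.induction_on with
        | zero => simp
        | tmul d x => simp [e₁, e₂]
        | add y y' hy hy' => rw [TensorProduct.tmul_add, map_add, map_add, hy, hy', map_add, map_add]
      | add z z' hz hz' => rw [map_add, map_add, hz, hz', map_add, map_add]
    intro a b hab
    obtain ⟨a, rfl⟩ := e₁.surjective a
    obtain ⟨b, rfl⟩ := e₁.surjective b
    rw [hcomp, hcomp] at hab
    rw [h1 (e₂.injective hab)]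
  haveI : Module.Flat L (L ⊗[A] Pn) :=
    Module.Flat.of_linearEquiv (AlgebraTensorModule.cancelBaseChange A (A ⧸ P) L L Pn).symm
  -- the ambient quotient
  let Sn := ((J ^ n • (⊤ : Submodule B M)).restrictScalars A)
  let Sn1 := ((J ^ (n + 1) • (⊤ : Submodule B M)).restrictScalars A)
  let R1 := LinearMap.range (LinearMap.baseChange L Sn1.subtype)
  let π : L ⊗[A] M →ₗ[L] L ⊗[A] Q := ((relations J M P n).mkQ.restrictScalars A).baseChange L
  have hker : LinearMap.ker π = R1 := by
    apply le_antisymm
    · intro z hz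
      have hex : Function.Exact ((relations J M P n).restrictScalars A).subtype
          ((relations J M P n).mkQ.restrictScalars A) := fun m => by
        simp [Submodule.Quotient.mk_eq_zero]
      obtain ⟨w, rfl⟩ := (lTensor_exact L hex
        (Submodule.Quotient.mk_surjective (relations J M P n)) z).1 hz
      clear hz
      induction w using TensorProduct.induction_on with
      | zero => simp
      | tmul l y =>
        obtain ⟨y, hy⟩ := y
        obtain ⟨y₁, hy₁, y₂, hy₂, rfl⟩ := Submodule.mem_sup.1 hy
        rw [LinearMap.lTensor_tmul]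
        show l ⊗ₜ[A] (y₁ + y₂) ∈ R1
        rw [TensorProduct.tmul_add]
        refine add_mem ⟨l ⊗ₜ ⟨y₁, hy₁⟩, rfl⟩ ?_
        suffices hz : l ⊗ₜ[A] y₂ = 0 by rw [hz]; exact zero_mem _
        have hy₂' : y₂ ∈ P • (⊤ : Submodule A M) := by
          have h2 : y₂ ∈ (P.map (algebraMap A B) • (⊤ : Submodule B M)).restrictScalars A := hy₂
          rwa [Ideal.smul_restrictScalars, Submodule.restrictScalars_top] at h2
        refine Submodule.smul_induction_on hy₂' (fun a ha m _ => ?_) fun u v hu hv => by
          rw [TensorProduct.tmul_add, hu, hv, add_zero]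
        rw [← TensorProduct.smul_tmul, Algebra.smul_def, hP a ha, zero_mul, TensorProduct.zero_tmul]
      | add w w' hw hw' => rw [map_add]; exact add_mem hw hw'
    · rintro _ ⟨w, rfl⟩
      rw [LinearMap.mem_ker, ← LinearMap.comp_apply, ← LinearMap.baseChange_comp,
        show ((relations J M P n).mkQ.restrictScalars A).comp Sn1.subtype = 0 from
          LinearMap.ext fun x => (Submodule.Quotient.mk_eq_zero _).2 (le_sup_left (α := Submodule B M) x.2)]
      simp
  let eQ : ((L ⊗[A] M) ⧸ R1) ≃ₗ[L] L ⊗[A] Q :=
    (Submodule.quotEquivOfEq _ _ hker.symm).trans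
      (π.quotKerEquivOfSurjective (LinearMap.lTensor_surjective L (Submodule.Quotient.mk_surjective _)))
  have himg : Submodule.map eQ.toLinearMap (grBC (A := A) J M L n) = LinearMap.range (Pn.subtype.baseChange L) := by
    have hcomp : eQ.toLinearMap.comp (R1.mkQ.comp (Sn.subtype.baseChange L)) =
        (Pn.subtype.baseChange L).comp ((toQuot J M P n).rangeRestrict.baseChange L) := by
      rw [← LinearMap.baseChange_comp]
      apply LinearMap.ext
      intro z
      show π (Sn.subtype.baseChange L z) = _
      rw [← LinearMap.comp_apply, ← LinearMap.baseChange_comp]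
      rfl
    have hs : Function.Surjective ((toQuot J M P n).rangeRestrict.baseChange L) :=
      LinearMap.lTensor_surjective L (toQuot J M P n).surjective_rangeRestrict
    rw [grBC, ← Submodule.map_comp, ← LinearMap.range_comp, LinearMap.comp_assoc, hcomp,
      LinearMap.range_comp, LinearMap.range_eq_top.2 hs, Submodule.map_top]
  exact Module.Flat.of_linearEquiv ((eQ.submoduleMap (grBC (A := A) J M L n)).trans
    ((LinearEquiv.ofEq _ _ himg).trans (LinearEquiv.ofInjective _ hinj).symm))

/-- The piece attached to a prime and an element. -/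
abbrev Piece (c : Ideal A × A) : Type u := Localization.Away (Ideal.Quotient.mk c.1 c.2)

open AlgebraicGeometry CategoryTheory in
theorem isImmersion_piece (c : Ideal A × A) :
    IsImmersion (Spec.map (CommRingCat.ofHom (algebraMap A (Piece c)))) := by
  rw [IsScalarTower.algebraMap_eq A (A ⧸ c.1) (Piece c), CommRingCat.ofHom_comp, Spec.map_comp]
  haveI : IsClosedImmersion (Spec.map (CommRingCat.ofHom (algebraMap A (A ⧸ c.1)))) :=
    IsClosedImmersion.spec_of_surjective _ Ideal.Quotient.mk_surjective
  haveI : IsOpenImmersion (Spec.map (CommRingCat.ofHom (algebraMap (A ⧸ c.1) (Piece c)))) :=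
    IsOpenImmersion.of_isLocalization (Ideal.Quotient.mk c.1 c.2)
  infer_instance

theorem range_piece (c : Ideal A × A) :
    Set.range (PrimeSpectrum.comap (algebraMap A (Piece c))) =
      {q : PrimeSpectrum A | c.1 ≤ q.asIdeal ∧ c.2 ∉ q.asIdeal} := by
  rw [IsScalarTower.algebraMap_eq A (A ⧸ c.1) (Piece c)]
  ext q
  constructor
  · rintro ⟨r, rfl⟩
    have hr : PrimeSpectrum.comap (algebraMap (A ⧸ c.1) (Piece c)) r ∈
        PrimeSpectrum.basicOpen (Ideal.Quotient.mk c.1 c.2) :=
      (PrimeSpectrum.localization_away_comap_range (Piece c) (Ideal.Quotient.mk c.1 c.2)).subset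
        ⟨r, rfl⟩
    refine ⟨fun a ha => ?_, fun h => hr h⟩
    show algebraMap (A ⧸ c.1) (Piece c) (Ideal.Quotient.mk c.1 a) ∈ r.asIdeal
    rw [Ideal.Quotient.eq_zero_iff_mem.2 ha, map_zero]
    exact zero_mem _
  · rintro ⟨h1, h2⟩
    obtain ⟨q', hq'⟩ : q ∈ Set.range (PrimeSpectrum.comap (Ideal.Quotient.mk c.1)) := by
      rw [range_comap_of_surjective _ _ Ideal.Quotient.mk_surjective, Ideal.mk_ker]
      exact h1
    obtain ⟨r, hr⟩ : q' ∈ Set.range (PrimeSpectrum.comap (algebraMap (A ⧸ c.1) (Piece c))) :=
      (PrimeSpectrum.localization_away_comap_range (Piece c) (Ideal.Quotient.mk c.1 c.2)).symm.subset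
        (fun h => h2 (hq' ▸ h))
    refine ⟨r, ?_⟩
    rw [PrimeSpectrum.comap_comp, ← hq', ← hr]
    rfl

/-- A stratification of a closed subset by pieces with flat graded quotients. -/
theorem exists_pieces [IsNoetherianRing A] [Algebra.FiniteType A B] [Module.Finite B M] (I : Ideal A) :
    ∃ (m : ℕ) (c : Fin m → Ideal A × A),
      (∀ i j, i ≠ j → Disjoint {q : PrimeSpectrum A | (c i).1 ≤ q.asIdeal ∧ (c i).2 ∉ q.asIdeal}
        {q : PrimeSpectrum A | (c j).1 ≤ q.asIdeal ∧ (c j).2 ∉ q.asIdeal}) ∧
      (⋃ i, {q : PrimeSpectrum A | (c i).1 ≤ q.asIdeal ∧ (c i).2 ∉ q.asIdeal}) =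
        PrimeSpectrum.zeroLocus (I : Set A) ∧
      (∀ i, ∃ U : Set (PrimeSpectrum A), IsOpen U ∧
        U ∩ (⋃ j, ⋃ (_ : i ≤ j), {q : PrimeSpectrum A | (c j).1 ≤ q.asIdeal ∧ (c j).2 ∉ q.asIdeal}) =
          {q : PrimeSpectrum A | (c i).1 ≤ q.asIdeal ∧ (c i).2 ∉ q.asIdeal}) ∧
      ∀ i (n : ℕ), Module.Flat (Piece (c i)) (grBC (A := A) J M (Piece (c i)) n) := by
  classical
  induction I using WellFoundedGT.induction with
  | ind I ih =>
  by_cases htop : I = ⊤
  · refine ⟨0, fun i => i.elim0, fun i => i.elim0, ?_, fun i => i.elim0, fun i => i.elim0⟩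
    rw [htop, Submodule.top_coe, PrimeSpectrum.zeroLocus_univ, Set.iUnion_of_empty]
  obtain ⟨P, hP⟩ := Ideal.nonempty_minimalPrimes htop
  haveI hPp : P.IsPrime := hP.1.1
  obtain ⟨f₁, hf₁, hflat⟩ := exists_flat_pieces J M P
  let others := (I.finite_minimalPrimes_of_isNoetherianRing).toFinset.erase P
  have hx : ∀ q ∈ others, ∃ x ∈ q, x ∉ P := fun q hq => by
    obtain ⟨hne, hqm⟩ := Finset.mem_erase.1 hq
    rw [Set.Finite.mem_toFinset] at hqm
    by_contra h
    push Not at h
    exact hne (le_antisymm (h : q ≤ P) (hP.2 ⟨hqm.1.1, hqm.1.2⟩ h))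
  choose! x hxq hxp using hx
  let g₀ := ∏ q ∈ others, x q
  have hg₀ : g₀ ∉ P := fun h => by
    obtain ⟨q, hq, hqp⟩ := hPp.prod_mem_iff.1 h
    exact hxp q hq hqp
  let f := f₁ * g₀
  have hf : f ∉ P := fun h => (hPp.mem_or_mem h).elim hf₁ hg₀
  let S₀ : Set (PrimeSpectrum A) := {q | P ≤ q.asIdeal ∧ f ∉ q.asIdeal}
  have hsplit : ∀ q : PrimeSpectrum A, I ≤ q.asIdeal → f ∉ q.asIdeal → P ≤ q.asIdeal := fun q hIq hfq => by
    obtain ⟨Q, hQ, hQq⟩ := Ideal.exists_minimalPrimes_le hIq
    by_cases h : Q = P
    · exact h ▸ hQq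
    · have hQ' : Q ∈ others := Finset.mem_erase.2 ⟨h, (Set.Finite.mem_toFinset _).2 hQ⟩
      exact absurd (hQq (Q.mem_of_dvd ((Finset.dvd_prod_of_mem x hQ').trans (Dvd.intro_left f₁ rfl))
        (hxq Q hQ'))) hfq
  have hlt : I < I ⊔ Ideal.span {f} := left_lt_sup.2 fun h =>
    hf (hP.1.2 ((Ideal.span_singleton_le_iff_mem _).1 h))
  obtain ⟨m, c, hdisj, hunion, hopen, hfl⟩ := ih _ hlt
  have hmem : ∀ j q, (c j).1 ≤ (q : PrimeSpectrum A).asIdeal → (c j).2 ∉ q.asIdeal →
      I ≤ q.asIdeal ∧ f ∈ q.asIdeal := fun j q h1 h2 => by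
    have hq : q ∈ PrimeSpectrum.zeroLocus ((I ⊔ Ideal.span {f} : Ideal A) : Set A) :=
      hunion ▸ Set.mem_iUnion.2 ⟨j, h1, h2⟩
    rw [PrimeSpectrum.mem_zeroLocus, SetLike.coe_subset_coe, sup_le_iff,
      Ideal.span_singleton_le_iff_mem] at hq
    exact hq
  refine ⟨m + 1, Fin.cons (P, f) c, ?_, ?_, ?_, ?_⟩
  · intro i j hij
    induction i using Fin.cases with
    | zero =>
      induction j using Fin.cases with
      | zero => exact absurd rfl hij
      | succ j =>
        simp only [Fin.cons_zero, Fin.cons_succ]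
        exact Set.disjoint_left.2 fun q hq hq' => hq.2 (hmem j q hq'.1 hq'.2).2
    | succ i =>
      induction j using Fin.cases with
      | zero =>
        simp only [Fin.cons_zero, Fin.cons_succ]
        exact Set.disjoint_left.2 fun q hq hq' => hq'.2 (hmem i q hq.1 hq.2).2
      | succ j =>
        simp only [Fin.cons_succ]
        exact hdisj i j fun h => hij (h ▸ rfl)
  · ext q
    rw [Set.mem_iUnion, PrimeSpectrum.mem_zeroLocus, SetLike.coe_subset_coe]
    constructor
    · rintro ⟨i, hi⟩
      induction i using Fin.cases with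
      | zero => exact hP.1.2.trans hi.1
      | succ i => simp only [Fin.cons_succ] at hi; exact (hmem i q hi.1 hi.2).1
    · intro hIq
      by_cases hfq : f ∈ q.asIdeal
      · obtain ⟨j, hj⟩ := Set.mem_iUnion.1 (hunion.symm.subset (show q ∈ PrimeSpectrum.zeroLocus
          ((I ⊔ Ideal.span {f} : Ideal A) : Set A) from
            (PrimeSpectrum.mem_zeroLocus _ _).mpr (sup_le hIq ((Ideal.span_singleton_le_iff_mem _).2 hfq))))
        exact ⟨j.succ, by simpa only [Fin.cons_succ] using hj⟩
      · exact ⟨0, by simpa only [Fin.cons_zero] using ⟨hsplit q hIq hfq, hfq⟩⟩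
  · intro i
    induction i using Fin.cases with
    | zero =>
      refine ⟨PrimeSpectrum.basicOpen f, (PrimeSpectrum.basicOpen f).isOpen, ?_⟩
      ext q
      simp only [Fin.cons_zero, Set.mem_inter_iff, Set.mem_iUnion]
      constructor
      · rintro ⟨hfq, j, -, hj⟩
        induction j using Fin.cases with
        | zero => exact hj
        | succ j => simp only [Fin.cons_succ] at hj; exact absurd (hmem j q hj.1 hj.2).2 hfq
      · intro hq
        exact ⟨hq.2, 0, le_rfl, hq⟩
    | succ i =>
      obtain ⟨U, hU, hUeq⟩ := hopen i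
      refine ⟨U, hU, ?_⟩
      simp only [Fin.cons_succ]
      rw [← hUeq]
      congr 1
      ext q
      simp only [Set.mem_iUnion]
      constructor
      · rintro ⟨j, hij, hj⟩
        induction j using Fin.cases with
        | zero => exact absurd hij (by simp)
        | succ j => exact ⟨j, Fin.succ_le_succ_iff.1 hij, by simpa only [Fin.cons_succ] using hj⟩
      · rintro ⟨j, hij, hj⟩
        exact ⟨j.succ, Fin.succ_le_succ_iff.2 hij, by simpa only [Fin.cons_succ] using hj⟩
  · intro i
    induction i using Fin.cases with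
    | succ i => rw [Fin.cons_succ]; exact hfl i
    | zero =>
      rw [Fin.cons_zero]
      intro n
      let L₁ := Localization.Away (Ideal.Quotient.mk P f₁)
      let L := Piece (P, f)
      have hu : IsUnit (algebraMap (A ⧸ P) L (Ideal.Quotient.mk P f₁)) :=
        isUnit_of_dvd_unit (map_dvd _ (map_dvd _ (dvd_mul_right f₁ g₀)))
          (IsLocalization.Away.algebraMap_isUnit (Ideal.Quotient.mk P f))
      letI : Algebra L₁ L := (IsLocalization.Away.lift (Ideal.Quotient.mk P f₁) hu).toAlgebra
      haveI : IsScalarTower (A ⧸ P) L₁ L := IsScalarTower.of_algebraMap_eq fun r =>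
        (IsLocalization.Away.lift_eq (Ideal.Quotient.mk P f₁) hu r).symm
      haveI : Module.Flat (A ⧸ P) L :=
        IsLocalization.flat L (Submonoid.powers (Ideal.Quotient.mk P f))
      haveI := hflat n
      exact flat_grBC J M P L n (Module.Flat.of_linearEquiv
        (AlgebraTensorModule.cancelBaseChange (A ⧸ P) L₁ L L
          ((A ⧸ P) ⊗[A] ↥(LinearMap.range (toQuot J M P n)))).symm)

end Groth.EGA43Gr
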